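import Cfsg.Agent.PQ.EA.SameA
import Cfsg.Agent.LV.One.Poly

/-!
# BZ / L / T2 : valuations of products of cyclotomic polynomials (helper94)

`Ad l d x` : `x` has order `d` modulo `l` (modulo four if `l = 2`).  `Cy u` : `u` divides `N * X ^ a * (X ^ n - 1) ^ c`.

* `val_const` : without the factor `Φ_d` the valuation of `u x` does not depend on `x`;
* `val_le` : a congruence modulo a large prime divisor of `Φ_d t` compares the valuations at `l`.
-/

set_option autoImplicit false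
set_option linter.unusedSectionVars false

namespace Cfsg.Agent.BZ.L.Hc

open Polynomial

/-- the admissible values -/
def Ad (l d : ℕ) (x : ℤ) : Prop := 1 < x ∧ orderOf (x : ZMod (if l = 2 then 4 else l)) = d

/-- products of cyclotomic polynomials -/
def Cy (u : ℤ[X]) : Prop := ∃ (N : ℤ) (a n c : ℕ), N ≠ 0 ∧ 0 < n ∧ u ∣ C N * X ^ a * (X ^ n - 1) ^ c

variable {l d : ℕ} [hl : Fact l.Prime] {x : ℤ} {u v : ℤ[X]}

theorem Cy.ne (h : Cy u) : u ≠ 0 := by
  obtain ⟨N, a, n, c, h1, h2, h3⟩ := h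
  exact ne_zero_of_dvd_ne_zero (mul_ne_zero (mul_ne_zero (C_ne_zero.2 h1) (pow_ne_zero _ X_ne_zero))
    (pow_ne_zero _ (by simpa using X_pow_sub_C_ne_zero h2 (1 : ℤ)))) h3

theorem Cy.of_dvd (h : Cy u) (e : v ∣ u) : Cy v := by
  obtain ⟨N, a, n, c, h1, h2, h3⟩ := h
  exact ⟨N, a, n, c, h1, h2, e.trans h3⟩

theorem Cy.cmul (h : Cy u) {b : ℤ} (hb : b ≠ 0) : Cy (C b * u) := by
  obtain ⟨N, a, n, c, h1, h2, h3⟩ := h
  exact ⟨b * N, a, n, c, mul_ne_zero hb h1, h2, by rw [C_mul, mul_assoc, mul_assoc, ← mul_assoc (C N)]; exact mul_dvd_mul_left _ h3⟩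

theorem emul {z : ℤ} (hz : z ≠ 0) : emultiplicity (l : ℤ) z = padicValInt l z := by
  rw [padicValInt.of_ne_one_ne_zero hl.out.ne_one hz]
  exact (Int.finiteMultiplicity_iff.2 ⟨by simpa using hl.out.ne_one, hz⟩).emultiplicity_eq_multiplicity

theorem dvd_md : (l : ℤ) ∣ ((if l = 2 then 4 else l : ℕ) : ℤ) := by
  split_ifs with h
  · rw [h]
    norm_num
  · rfl

theorem not_dvd_of {y : ℤ} (h : (l : ℤ) ∣ y - 1) : ¬ (l : ℤ) ∣ y := fun e =>
  hl.out.ne_one (Int.natCast_dvd_natCast.1 (by simpa using (dvd_sub e h)) |> Nat.dvd_one.1)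

theorem lte {y : ℤ} (h1 : 1 < y) (h : ((if l = 2 then 4 else l : ℕ) : ℤ) ∣ y - 1) {n : ℕ} (hn : n ≠ 0) :
    padicValInt l (y ^ n - 1) = padicValInt l (y - 1) + padicValInt l n := by
  have h2 := not_dvd_of (dvd_md.trans h)
  rw [← Nat.cast_inj (R := ℕ∞), Nat.cast_add, ← emul (sub_pos.2 (one_lt_pow₀ h1 hn)).ne', ← emul (sub_pos.2 h1).ne',
    ← emul (Nat.cast_ne_zero.2 hn)]
  split_ifs at h with e
  · subst e
    simpa using Int.two_pow_sub_pow' n h h2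
  · rw [Int.natCast_emultiplicity]
    simpa using Int.emultiplicity_pow_sub_pow hl.out (hl.out.odd_of_ne_two e) h h2 n

theorem Ad.dvd_iff (h : Ad l d x) (e : ℕ) : ((if l = 2 then 4 else l : ℕ) : ℤ) ∣ x ^ e - 1 ↔ d ∣ e := by
  rw [← h.2, orderOf_dvd_iff_pow_eq_one, ← ZMod.intCast_zmod_eq_zero_iff_dvd, Int.cast_sub, Int.cast_pow, Int.cast_one, sub_eq_zero]

theorem Ad.not_dvd (hd : 0 < d) (h : Ad l d x) : ¬ (l : ℤ) ∣ x := fun e =>
  not_dvd_of (dvd_md.trans ((h.dvd_iff d).2 dvd_rfl)) (dvd_pow e hd.ne')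

theorem val_pow (hd : 0 < d) {e : ℕ} (he : 0 < e) : ∃ k : ℤ, ∀ x, Ad l d x →
    (padicValInt l (x ^ e - 1) : ℤ) = k + if d ∣ e then (padicValInt l (x ^ d - 1) : ℤ) else 0 := by
  by_cases h : d ∣ e
  · obtain ⟨j, rfl⟩ := h
    refine ⟨padicValInt l j, fun x hx => ?_⟩
    rw [if_pos (dvd_mul_right _ _), pow_mul, lte (one_lt_pow₀ hx.1 hd.ne') ((hx.dvd_iff d).2 dvd_rfl) (Nat.pos_of_mul_pos_left he).ne',
      Nat.cast_add, add_comm]
  refine ⟨if l = 2 then 1 else 0, fun x hx => ?_⟩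
  have h1 := mt (hx.dvd_iff e).1 h
  rw [if_neg h, add_zero]
  split_ifs at h1 ⊢ with h2
  · have h3 : (l : ℤ) ^ 1 ∣ x ^ e - 1 := by
      have h4 := hx.not_dvd hd
      subst h2
      exact even_iff_two_dvd.1 ((Int.not_even_iff_odd.1 (mt even_iff_two_dvd.1 h4)).pow.sub_odd odd_one)
    have h5 := (padicValInt_dvd_iff (p := l) 2 (x ^ e - 1)).not.1 (by subst h2; exact h1)
    have h6 := ((padicValInt_dvd_iff 1 _).1 h3).resolve_left (sub_pos.2 (one_lt_pow₀ hx.1 he.ne')).ne'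
    omega
  · exact_mod_cast padicValInt.eq_zero_of_not_dvd h1

theorem val_prod {ι : Type} (s : Finset ι) (f : ι → ℤ) (h : ∀ i ∈ s, f i ≠ 0) :
    padicValInt l (∏ i ∈ s, f i) = ∑ i ∈ s, padicValInt l (f i) := by
  classical
  induction s using Finset.induction_on with
  | empty => simp
  | insert j s hj ih =>
    have h1 := fun i hi => h i (Finset.mem_insert_of_mem hi)
    rw [Finset.prod_insert hj, Finset.sum_insert hj, padicValInt.mul (h j (Finset.mem_insert_self _ _)) (Finset.prod_ne_zero_iff.2 h1),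
      ih h1]

theorem val_cyc (hd : 0 < d) (e : ℕ) (he : 0 < e) : ∃ k : ℤ, ∀ x, Ad l d x →
    (padicValInt l ((cyclotomic e ℤ).eval x) : ℤ) = k + if e = d then (padicValInt l (x ^ d - 1) : ℤ) else 0 := by
  induction e using Nat.strong_induction_on with
  | _ e ih =>
  choose! k hk using ih
  obtain ⟨c, hc⟩ := val_pow (l := l) hd he
  refine ⟨c - ∑ f ∈ e.properDivisors, k f, fun x hx => ?_⟩
  have h1 := congrArg (fun P => (padicValInt l (P.eval x) : ℤ)) (prod_cyclotomic_eq_X_pow_sub_one he ℤ)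
  rw [eval_prod, val_prod _ _ fun i _ => (cyclotomic_pos' i hx.1).ne', eval_sub, eval_pow, eval_X, eval_one, hc x hx,
    ← Nat.cons_self_properDivisors he.ne', Finset.sum_cons, Nat.cast_add, Nat.cast_sum, Finset.sum_congr rfl fun f hf =>
      hk f (Nat.mem_properDivisors.1 hf).2 (Nat.pos_of_mem_properDivisors hf) x hx, Finset.sum_add_distrib, Finset.sum_ite_eq'] at h1
  simp only [Nat.mem_properDivisors] at h1
  by_cases h2 : e = d
  · subst h2
    rw [if_neg (by simp), if_pos dvd_rfl] at h1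
    rw [if_pos rfl]
    linarith
  · rw [if_congr (and_iff_left_of_imp fun h => lt_of_le_of_ne (Nat.le_of_dvd he h) (Ne.symm h2)) rfl rfl] at h1
    rw [if_neg h2]
    linarith

/-- **the valuation is constant** -/
theorem val_const (hd : 0 < d) (hu : Cy u) (h : ¬ cyclotomic d ℤ ∣ u) :
    ∃ k : ℤ, ∀ x, Ad l d x → u.eval x ≠ 0 ∧ (padicValInt l (u.eval x) : ℤ) = k := by
  have key : ∀ {f g : ℤ[X]}, Prime f → Irreducible g → f ∣ g → ∀ {k : ℤ},
      (∀ x, Ad l d x → g.eval x ≠ 0 ∧ (padicValInt l (g.eval x) : ℤ) = k) →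
      ∀ x, Ad l d x → f.eval x ≠ 0 ∧ (padicValInt l (f.eval x) : ℤ) = k := fun {f g} hf hg e k h x hx => by
    have h1 := Int.associated_iff_natAbs.1 ((hf.irreducible.associated_of_dvd hg e).map (evalRingHom x))
    simp only [coe_evalRingHom] at h1
    refine ⟨fun h2 => (h x hx).1 (by rwa [h2, eq_comm, Int.natAbs_zero, Int.natAbs_eq_zero] at h1), ?_⟩
    rw [padicValInt, h1]
    exact (h x hx).2
  have cst : ∀ {f : ℤ[X]}, f ≠ 0 → f.natDegree = 0 → ∃ k : ℤ, ∀ x, Ad l d x → f.eval x ≠ 0 ∧ (padicValInt l (f.eval x) : ℤ) = k :=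
    fun {f} h0 h1 => by
      obtain ⟨a, rfl⟩ := natDegree_eq_zero.1 h1
      exact ⟨padicValInt l a, fun x _ => by rw [eval_C]; exact ⟨C_ne_zero.1 h0, rfl⟩⟩
  induction u using UniqueFactorizationMonoid.induction_on_prime with
  | h₁ => exact absurd rfl hu.ne
  | h₂ u h1 => exact cst h1.ne_zero (natDegree_eq_zero_of_isUnit h1)
  | h₃ u f h0 hf ih =>
    obtain ⟨k, hk⟩ := ih (hu.of_dvd (dvd_mul_left _ _)) fun e => h (e.mul_left _)
    obtain ⟨N, a, n, c, h1, h2, h3⟩ := hu.of_dvd (dvd_mul_right f u)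
    obtain ⟨j, hj⟩ : ∃ k : ℤ, ∀ x, Ad l d x → f.eval x ≠ 0 ∧ (padicValInt l (f.eval x) : ℤ) = k := by
      rcases hf.dvd_or_dvd h3 with h4 | h4
      · rcases hf.dvd_or_dvd h4 with h5 | h5
        · exact cst hf.ne_zero (Nat.le_zero.1 ((natDegree_le_of_dvd h5 (C_ne_zero.2 h1)).trans_eq (natDegree_C N)))
        · exact ⟨0, key hf irreducible_X (hf.dvd_of_dvd_pow h5) fun x hx => by
            rw [eval_X]
            exact ⟨by have := hx.1; omega, by exact_mod_cast padicValInt.eq_zero_of_not_dvd (hx.not_dvd hd)⟩⟩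
      · obtain ⟨e, h5, h6⟩ := hf.exists_mem_finset_dvd (prod_cyclotomic_eq_X_pow_sub_one h2 ℤ ▸ hf.dvd_of_dvd_pow h4)
        have h7 := Nat.pos_of_mem_divisors h5
        obtain ⟨i, hi⟩ := val_cyc (l := l) hd e h7
        refine ⟨i, key hf (cyclotomic.irreducible h7) h6 fun x hx => ⟨(cyclotomic_pos' e hx.1).ne', ?_⟩⟩
        rw [hi x hx, if_neg, add_zero]
        rintro rfl
        exact h ((hf.irreducible.associated_of_dvd (cyclotomic.irreducible h7) h6).symm.dvd.mul_right _)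
    refine ⟨j + k, fun x hx => ?_⟩
    rw [eval_mul, padicValInt.mul (hj x hx).1 (hk x hx).1, Nat.cast_add, (hj x hx).2, (hk x hx).2]
    exact ⟨mul_ne_zero (hj x hx).1 (hk x hx).1, rfl⟩

/-- admissible values near a root -/
theorem Ad.exists_near (hd : 0 < d) (h : Ad l d x) (N : ℕ) : ∃ y, Ad l d y ∧ N ≤ padicValInt l (y ^ d - 1) := by
  by_cases h2 : l = 2
  · subst h2
    obtain ⟨ε, h3, h4⟩ : ∃ ε : ℤ, (ε = 1 ∨ ε = -1) ∧ (4 : ℤ) ∣ x - ε := by
      have h5 : ¬ (2 : ℤ) ∣ x := h.not_dvd hd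
      by_cases h6 : (4 : ℤ) ∣ x - 1
      · exact ⟨1, Or.inl rfl, h6⟩
      · exact ⟨-1, Or.inr rfl, by omega⟩
    have h5 : (1 : ℤ) < 2 ^ (N + 2) + ε := by
      have : (1 : ℤ) ≤ 2 ^ N := one_le_pow₀ one_le_two
      rw [pow_add]
      omega
    have h6 : ε ^ d = 1 := by
      have h7 : (4 : ℤ) ∣ ε ^ d - 1 := by
        simpa using dvd_sub ((h.dvd_iff d).2 dvd_rfl) (h4.trans (sub_dvd_pow_sub_pow x ε d))
      rcases h3 with rfl | rfl
      · exact one_pow d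
      · rcases neg_one_pow_eq_or ℤ d with e | e
        · exact e
        · rw [e] at h7
          omega
    refine ⟨_, ⟨h5, Eq.trans (congrArg orderOf ?_) h.2⟩, ((padicValInt_dvd_iff N _).1 ?_).resolve_left
      (sub_pos.2 (one_lt_pow₀ h5 hd.ne')).ne'⟩
    · refine (ZMod.intCast_eq_intCast_iff_dvd_sub _ _ 4).2 ?_
      rw [pow_add]
      omega
    · rw [← h6]
      exact Dvd.dvd.trans (by simpa using pow_dvd_pow (2 : ℤ) (Nat.le_add_right N 2)) (sub_dvd_pow_sub_pow _ ε d)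
  have h3 := pow_ne_zero N hl.out.ne_zero
  refine ⟨x ^ l ^ N, ⟨one_lt_pow₀ h.1 h3, Eq.trans ?_ h.2⟩, ?_⟩
  · rw [if_neg h2, Int.cast_pow, ZMod.pow_card_pow]
  · rw [← pow_mul, mul_comm, pow_mul, lte (one_lt_pow₀ h.1 hd.ne') ((h.dvd_iff d).2 dvd_rfl) h3, padicValInt.of_nat,
      padicValNat.prime_pow]
    exact Nat.le_add_left _ _

theorem bez (hd : 0 < d) (h : ¬ cyclotomic d ℤ ∣ u) :
    ∃ B : ℕ, ∀ r : ℕ, B < r → ∀ t : ℤ, (r : ℤ) ∣ (cyclotomic d ℤ).eval t → ¬ (r : ℤ) ∣ u.eval t := by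
  obtain ⟨n, a, b, h1, h2⟩ := PQ.EA.SameL.bezout (cyclotomic.monic d ℤ) (by rw [map_cyclotomic]; exact cyclotomic.irreducible_rat hd) h
  refine ⟨n.natAbs, fun r hr t h3 h4 => ?_⟩
  have h5 := congrArg (eval t) h2
  rw [eval_add, eval_mul, eval_mul, eval_C] at h5
  exact h1 (Int.eq_zero_of_dvd_of_natAbs_lt_natAbs (d := r) (h5 ▸ dvd_add (h3.mul_right _) (h4.mul_right _)) hr)

/-- **the comparison of the valuations** -/
theorem val_le (hd : 0 < d) (hu : Cy u) (hv : Cy v) : ∃ B : ℕ, ∀ r : ℕ, r.Prime → B < r → ∀ t, Ad l d t →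
    (r : ℤ) ∣ (cyclotomic d ℤ).eval t → ∀ w ω : ℤ, ¬ (r : ℤ) ∣ w → (r : ℤ) ∣ w - ω → w * u.eval t = ω * v.eval t →
      padicValInt l (u.eval t) ≤ padicValInt l (v.eval t) := by
  obtain ⟨i, u, h1, rfl⟩ := WfDvdMonoid.max_power_factor hu.ne (cyclotomic.irreducible hd)
  obtain ⟨j, v, h2, rfl⟩ := WfDvdMonoid.max_power_factor hv.ne (cyclotomic.irreducible hd)
  obtain ⟨B₁, h3⟩ := bez hd h1
  obtain ⟨B₂, h4⟩ := bez hd h2
  obtain ⟨k₁, h5⟩ := val_const (l := l) hd (hu.of_dvd (dvd_mul_left _ _)) h1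
  obtain ⟨k₂, h6⟩ := val_const (l := l) hd (hv.of_dvd (dvd_mul_left _ _)) h2
  obtain ⟨B₃, h7⟩ : ∃ B : ℕ, ∀ r : ℕ, B < r → ∀ t, Ad l d t → (r : ℤ) ∣ (cyclotomic d ℤ).eval t → (r : ℤ) ∣ (u - v).eval t → k₁ ≤ k₂ := by
    by_cases h : cyclotomic d ℤ ∣ u - v
    · refine ⟨0, fun _ _ t ht _ _ => ?_⟩
      obtain ⟨c, hc⟩ := val_cyc (l := l) hd d hd
      obtain ⟨y, h8, h9⟩ := ht.exists_near hd (k₁ - c).toNat
      have h10 := hc y h8
      rw [if_pos rfl] at h10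
      have h11 := (padicValInt_dvd_iff (p := l) (padicValInt l (u.eval y)) ((cyclotomic d ℤ).eval y)).2 (Or.inr (by
        have := (h5 y h8).2
        omega))
      have h12 := dvd_sub (padicValInt_dvd (p := l) (u.eval y)) (h11.trans (eval_dvd (x := y) h))
      rw [eval_sub, sub_sub_cancel, padicValInt_dvd_iff] at h12
      rw [← (h5 y h8).2, ← (h6 y h8).2]
      exact_mod_cast h12.resolve_left (h6 y h8).1
    · exact (bez hd h).imp fun B hB r hr t _ a b => absurd b (hB r hr t a)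
  refine ⟨B₁ + B₂ + B₃, fun r hr hB t ht h8 w ω h9 h10 h11 => ?_⟩
  have hr' := Nat.prime_iff_prime_int.1 hr
  have h12 := (cyclotomic_pos' d ht.1).ne'
  have h13 : ¬ (r : ℤ) ∣ ω := fun e => h9 (by simpa using dvd_add h10 e)
  simp only [eval_mul, eval_pow] at h11 ⊢
  have h14 : ∀ {i j : ℕ} {a b a' b' : ℤ}, a * ((cyclotomic d ℤ).eval t ^ i * b) = a' * ((cyclotomic d ℤ).eval t ^ j * b') →
      ¬ (r : ℤ) ∣ a → ¬ (r : ℤ) ∣ b → j ≤ i := fun {i j a b a' b'} e ha hb => not_lt.1 fun h => by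
    obtain ⟨c, rfl⟩ := Nat.exists_eq_add_of_lt h
    rw [mul_left_comm, add_assoc, pow_add, mul_assoc, mul_left_comm a', mul_right_inj' (pow_ne_zero _ h12)] at e
    exact (hr'.dvd_or_dvd (e ▸ ((dvd_pow h8 c.succ_ne_zero).mul_right _).mul_left _)).elim ha hb
  obtain rfl := le_antisymm (h14 h11.symm h13 (h4 r (by omega) t h8)) (h14 h11 h9 (h3 r (by omega) t h8))
  rw [mul_left_comm, mul_left_comm ω, mul_right_inj' (pow_ne_zero _ h12)] at h11
  have h15 := h7 r (by omega) t ht h8 ((hr'.dvd_or_dvd (a := w) (by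
    rw [eval_sub, mul_sub, h11, ← sub_mul]
    exact (dvd_sub_comm.1 h10).mul_right _)).resolve_left h9)
  rw [padicValInt.mul (pow_ne_zero _ h12) (h5 t ht).1, padicValInt.mul (pow_ne_zero _ h12) (h6 t ht).1]
  have := (h5 t ht).2
  have := (h6 t ht).2
  omega

end Cfsg.Agent.BZ.L.Hc
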