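import Cfsg.Agent.BZ.L.T2.Fam
import Cfsg.Agent.LV.One.Res
import Cfsg.Agent.LV.Lift.Main

/-!
# BZ / L / T2 : the degrees of the characters of a finite reductive group (helper94)

* `Fam n c` : a finite family of polynomials; `Ot` : the order of a torus;
* `cd` : the order and the degrees come from the family; `cd_cen` : the same for the centraliser of an `r`-subgroup.
-/

set_option autoImplicit false
set_option linter.unusedSectionVars false

namespace Cfsg.Agent.BZ.L.Hc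

open Cfsg Subgroup Polynomial Cfsg.Agent.HZ.Gen Cfsg.Agent.LV.One Cfsg.Agent.DL Cfsg.Agent.DL.PP Cfsg.Agent.DL.Uni Cfsg.Agent.DL.Asm
  Cfsg.Agent.KZ.Lie Cfsg.Agent.Characters.Core Cfsg.Agent.Nodes.Reps Cfsg.Agent.Nodes.BNOf

/-- the common multiple of the order polynomials -/
noncomputable def EE (n c : ℕ) : ℤ[X] := (X ^ n - 1) ^ c

/-- the summands -/
def Sd (n c : ℕ) : Set ℤ[X] := Set.image2 (fun a s => C a * s) (Set.Icc (-c : ℤ) c) {s | s.Monic ∧ s ∣ EE n c}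

/-- the family -/
def Fam (n c : ℕ) : Set ℤ[X] := (fun L : List (Sd n c) => (L.map Subtype.val).sum) '' {L | L.length ≤ c}

/-- the order of a torus -/
def Ot (n c : ℕ) (t : ℤ) (o : ℕ) : Prop := ∃ s : ℤ[X], (s.Monic ∧ s ∣ EE n c) ∧ ∃ ε : ℤ, |ε| = 1 ∧ (EE n c).eval t = ε * o * s.eval t

variable {n c : ℕ} {t : ℤ}

theorem cy_EE (hn : 0 < n) (c : ℕ) : Cy (EE n c) := ⟨1, 0, n, c, one_ne_zero, hn, dvd_mul_left _ _⟩

theorem fam_finite (hn : 0 < n) (c : ℕ) : (Fam n c).Finite := by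
  have : Finite (Sd n c) := (Set.finite_Icc _ _).image2 _
    (Set.finite_coe_iff.1 (@Finite.of_fintype _ (fintypeSubtypeMonicDvd _ (cy_EE hn c).ne)))
  exact (List.finite_length_le _ c).image _

theorem sum_mem {W : Type} [Fintype W] (f : W → ℤ[X]) (h : ∀ w, f w ∈ Sd n c) (hc : Fintype.card W ≤ c) : ∑ w, f w ∈ Fam n c :=
  ⟨Finset.univ.toList.map fun w => ⟨f w, h w⟩, by simpa using hc, by simp [Function.comp_def]⟩

theorem ot_of {R : Type} [Fintype R] [DecidableEq R] {A : Matrix R R ℤ} (hn : 0 < n) (hA : A ^ n = 1) (hc : Fintype.card R ≤ c)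
    (t : ℤ) : Ot n c t (t • A - 1).det.natAbs := by
  obtain ⟨n, rfl⟩ := Nat.exists_eq_add_one_of_ne_zero hn.ne'
  have h1 : (A ^ n).charpoly ∣ EE (n + 1) c := by
    have h2 := congrArg Matrix.det ((Matrix.scalar_commute (X : ℤ[X]) (fun _ => Commute.all _ _)
      ((C : ℤ →+* ℤ[X]).mapMatrix (A ^ n))).mul_geom_sum₂ (n + 1))
    rw [Matrix.det_mul, ← map_pow, ← map_pow, ← pow_mul, mul_comm n, pow_mul, hA, one_pow, map_one,
      ← map_one (Matrix.scalar R), ← map_sub, Matrix.scalar_apply (X ^ (n + 1) - 1), Matrix.det_diagonal, Finset.prod_const] at h2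
    exact (Dvd.intro _ h2).trans (pow_dvd_pow _ hc)
  obtain ⟨s, hs⟩ := h1
  have h2 : (t • A - 1).det = A.det * (A ^ n).charpoly.eval t := by
    rw [Matrix.eval_charpoly, ← Matrix.det_mul, mul_sub, ← pow_succ', hA, Matrix.scalar_apply, ← Matrix.smul_eq_mul_diagonal]
  have h3 : A.det.natAbs = 1 := Int.isUnit_iff_natAbs_eq.1 (IsUnit.of_pow_eq_one (by rw [← Matrix.det_pow, hA, Matrix.det_one]) hn.ne')
  have h4 : (EE (n + 1) c).Monic := Monic.pow (by simpa using monic_X_pow_sub_C (1 : ℤ) hn.ne') c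
  refine ⟨s, ⟨(Matrix.charpoly_monic _).of_mul_monic_left (hs ▸ h4), Dvd.intro_left _ hs.symm⟩, ?_⟩
  rw [h2, Int.natAbs_mul, h3, one_mul, hs, eval_mul]
  rcases Int.natAbs_eq ((A ^ n).charpoly.eval t) with e | e
  · exact ⟨1, abs_one, by rw [one_mul, ← e]⟩
  · exact ⟨-1, by simp, by rw [neg_one_mul, ← e]⟩

variable {p : ℕ} [Fact p.Prime] {k : Type} [Field k] [CharP k p] {Y : Type} [Group Y] {N : Type} [Fintype N]
  [DecidableEq N] {ρ : Y →* GL N k} {F : MulAut Y} {G C : Subgroup Y} [IsAlgClosed k] {D : Datum p ρ F G}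

theorem tot_bd [Fintype (GF F G)] (f : Fr D) {χ : GF F G → ℂ} (hχ : IsIrrCharacter _ χ) (w : D.W) :
    ∃ m : ℤ, |m| ≤ Nat.card D.W ∧ ∑ᶠ c, classInner χ (RW f w c) = m := by
  have : Finite (LV.Blk.FS D w) := finite_Fx D w
  have := Fintype.ofFinite (LV.Blk.FS D w)
  choose m hm using inner_int f (gen_of_irr hχ) w
  refine ⟨∑ c : LV.Blk.FS D w, m c, ?_, by rw [tot_fin, Int.cast_sum]; exact Finset.sum_congr rfl fun c _ => hm c⟩
  have h1 := LV.Lift.bessel_fin f hχ w (Finset.univ.map (Function.Embedding.subtype (· ∈ LV.Blk.FS D w)))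
  rw [Finset.sum_map, Finset.sum_congr rfl (g := fun c : LV.Blk.FS D w => ((|m c| ^ 2 : ℤ) : ℝ)) fun c _ => by
    rw [hm, Complex.norm_intCast, Int.cast_pow, Int.cast_abs]
    rfl] at h1
  exact ((Finset.abs_sum_le_sum_abs _ _).trans (Finset.sum_le_sum fun c _ => Int.le_self_sq _)).trans (by exact_mod_cast h1)

variable [Fintype (GF F G)] (hW : Nat.card D.W ≤ c) (hT : ∀ w, Ot n c t (ordT D w))
include hW hT

/-- **the degree formula** -/
theorem deg {χ : GF F G → ℂ} (hχ : IsIrrCharacter _ χ) :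
    ∃ h ∈ Fam n c, charDegree χ * (Polynomial.C (Nat.card D.W : ℤ) * EE n c).eval t = pc' p (GF F G) * h.eval t := by
  have := Fintype.ofFinite D.W
  obtain ⟨f⟩ := nonempty_fr D
  obtain ⟨St, hSt⟩ := St.stD D
  choose m h1 h2 using tot_bd f hχ
  choose s h3 ε h4 h5 using hT
  have h6 : ∀ w, ∃ η : ℤ, |η| = 1 ∧ eps (GF F G) (R D) St (Tw D w) = η := fun w => by
    rcases hSt.eps_sign (sys' D) (Tw_mem w) with e | e
    exacts [⟨1, abs_one, by simp [e]⟩, ⟨-1, by simp, by simp [e]⟩]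
  choose η h6 h7 using h6
  refine ⟨∑ w, Polynomial.C (m w * η w * ε w) * s w, sum_mem _ (fun w => Set.mem_image2_of_mem (abs_le.1 ?_) (h3 w))
    (Nat.card_eq_fintype_card (α := D.W) ▸ hW), Int.cast_injective (α := ℂ) ?_⟩
  · rw [abs_mul, abs_mul, h4, h6, mul_one, mul_one]
    exact (h1 w).trans (Nat.cast_le.2 hW)
  have h8 := val_one f χ
  rw [eq_inv_mul_iff_mul_eq₀ (Nat.cast_ne_zero.2 Nat.card_pos.ne'), finsum_eq_sum_of_fintype, ← deg_cast (isIrr_isCharacter hχ)] at h8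
  rw [eval_mul, eval_C, eval_finsetSum, ← mul_assoc, mul_comm (charDegree χ : ℤ), Finset.mul_sum, Int.cast_mul, Int.cast_mul,
    Int.cast_natCast, Int.cast_natCast, h8, Finset.sum_mul, Int.cast_sum]
  refine Finset.sum_congr rfl fun w _ => ?_
  have h9 : (ordT D w : ℂ) ≠ 0 := Nat.cast_ne_zero.2 (ordT_ne w)
  rw [finsum_congr (g := fun c => classInner χ (RW f w c) * (η w * pc' p (GF F G) / ordT D w)) fun c => by
    by_cases h : classInner χ (RW f w c) = 0
    · rw [h, zero_mul, zero_mul]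
    · rw [RW_apply, OneMemClass.coe_one, hSt.degree (sys' D) (Tw_mem w), (th_spec f (fx_of_ne f h)).1.one, mul_one, card_Tw, h7],
    ← finsum_mul, h2, h5 w, eval_mul, eval_C]
  push_cast
  field_simp

/-- **the order and the degrees** -/
theorem cd {χ : GF F G → ℂ} (hχ : IsIrrCharacter _ χ) : Cd (Fam n c) (EE n c) c p t (Nat.card (GF F G)) (charDegree χ) := by
  obtain ⟨St, hSt⟩ := St.stD D
  obtain ⟨h₁, a₁, e₁⟩ := deg hW hT (Characters.Linear.isIrrCharacter_hom (1 : GF F G →* ℂˣ))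
  obtain ⟨h₂, a₂, e₂⟩ := deg hW hT hSt.irr
  obtain ⟨h₃, a₃, e₃⟩ := deg hW hT hχ
  refine ⟨_, ⟨Nat.card_pos, hW⟩, h₁, a₁, h₂, a₂, h₃, a₃, _, _, (pc_mul_pc' p _).symm, ?_, ?_, e₃⟩
  · rw [← e₁, charDegree]
    simp
  · rw [← e₂, ← Nat.cast_pow]
    exact congrArg (fun x : ℕ => (x : ℤ) * _) (Nat.cast_injective (R := ℂ) (hSt.deg.symm.trans (deg_cast (isIrr_isCharacter hSt.irr)).symm))

omit hW hT [Fintype (GF F G)] in
theorem card_W_le {X : Datum p ρ F C} (H : RL.Ov D X) : Nat.card X.W ≤ Nat.card D.W := by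
  obtain ⟨y, H⟩ := H
  choose m hm _ using X.exists_rp
  refine Nat.card_le_card_of_injective (fun w => D.pr (y⁻¹ * m w * y)) fun w w' e => ?_
  have h1 := fun w => H.mem_NN (m := m w) ⟨w, hm w⟩
  have h2 := (D.pr_eq_one_iff (mul_mem (h1 w) (inv_mem (h1 w')))).1 (by
    rw [D.pr_mul (h1 w) (inv_mem (h1 w')), D.pr_inv (h1 w')]
    exact mul_inv_eq_one.2 e)
  have h3 := (X.pr_eq_one_iff (mul_mem (⟨w, hm w⟩ : m w ∈ X.NN) (inv_mem (⟨w', hm w'⟩ : m w' ∈ X.NN)))).2 (by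
    rw [H.tor, mem_cj]
    simpa [mul_assoc] using h2)
  rwa [Datum.Rp.pr_eq ((hm w).mul (hm w').inv), mul_inv_eq_one] at h3

/-- **centralisers** -/
theorem cd_cen {r : ℕ} [Fact r.Prime] (hp : r ≠ p) (hr : ¬ r ∣ Nat.card D.W) {P : Subgroup (GF F G)} (hP : IsPGroup r P)
    (ψ : IrrCharacter (centralizer (P : Set (GF F G)))) :
    Cd (Fam n c) (EE n c) c p t (Nat.card (centralizer (P : Set (GF F G)))) (charDegree ψ.1) := by
  obtain ⟨C, hC⟩ : ∃ C, C = G ⊓ centralizer (P.map (GF F G).subtype : Set Y) := ⟨_, rfl⟩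
  obtain ⟨X, HX⟩ : RL.Rg D C := hC ▸ rg_cen D hp hr hP
  have := finite_GF X
  have := Fintype.ofFinite (GF F C)
  let e : GF F C ≃* centralizer (P : Set (GF F G)) :=
    { toFun := fun g => ⟨⟨g, HX.le g.2.1, g.2.2⟩, (mem_C hC).1 g.2.1⟩
      invFun := fun g => ⟨g.1, (mem_C hC).2 g.2, g.1.2.2⟩
      left_inv := fun _ => rfl
      right_inv := fun _ => rfl
      map_mul' := fun _ _ => rfl }
  have h1 := cd (D := X) (n := n) (t := t) ((card_W_le HX).trans hW) (fun u => by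
    obtain ⟨h2, h3⟩ := HX.tori_eq.le (Tw_mem u)
    obtain ⟨y, hy, w, hw, h4⟩ := exists_y h2
    rw [← card_Tw, ← RL.GF_tor h3, RL.GF_tor (G := G) (h3.trans HX.le), h4, D.card_cj_TF hy hw]
    exact hT w) (χ := ψ.1 ∘ e) (Blocks.CliffordCentral.isIrrCharacter_comp ψ.2 e.toMonoidHom e.surjective)
  rwa [Nat.card_congr e.toEquiv, charDegree, Function.comp_apply, map_one] at h1

end Cfsg.Agent.BZ.L.Hc
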