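import Cfsg.Agent.BZ.L.T2.Cyc
import Cfsg.Agent.BZ.L.Lie
import Cfsg.Agent.HZ.Gen.Sep

/-!
# BZ / L / T2 : finite families of degree polynomials (helper94)

`Cd S E c p t N z` : the order `N`, its `p`-part and the degree `z` are given by polynomials of the family `S`.

* `codeg`, `lg_codeg` : the quotient `N / z` is the value of a product of cyclotomic polynomials;
* `arith` : a congruence modulo `r` gives an inequality of the valuations at `l`.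
-/

set_option autoImplicit false
set_option linter.unusedSectionVars false

namespace Cfsg.Agent.BZ.L.Hc

open Polynomial Cfsg.Agent.HZ.Gen Cfsg.Agent.LV.One

/-- the three degree formulas -/
def Tri (p : ℕ) (E h₁ h₂ h₃ : ℤ[X]) (t : ℤ) (N z : ℕ) : Prop :=
  ∃ i y : ℕ, N = p ^ i * y ∧ E.eval t = y * h₁.eval t ∧ p ^ i * E.eval t = y * h₂.eval t ∧ z * E.eval t = y * h₃.eval t

/-- the order and the degree come from the family `S` -/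
def Cd (S : Set ℤ[X]) (E : ℤ[X]) (c p : ℕ) (t : ℤ) (N z : ℕ) : Prop :=
  ∃ w ∈ Set.Icc 1 c, ∃ h₁ ∈ S, ∃ h₂ ∈ S, ∃ h₃ ∈ S, Tri p (C (w : ℤ) * E) h₁ h₂ h₃ t N z

theorem exists_dvd {f g : ℤ[X]} (h : f.map (Int.castRingHom ℚ) ∣ g.map (Int.castRingHom ℚ)) : ∃ N : ℤ, N ≠ 0 ∧ f ∣ C N * g := by
  obtain ⟨s, hs⟩ := h
  obtain ⟨b, hb, h1⟩ := IsLocalization.integerNormalization_spec (nonZeroDivisors ℤ) s
  refine ⟨b, nonZeroDivisors.ne_zero hb, IsLocalization.integerNormalization (nonZeroDivisors ℤ) s,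
    map_injective (Int.castRingHom ℚ) (RingHom.injective_int _) ?_⟩
  rw [Polynomial.map_mul, Polynomial.map_mul, hs, ← algebraMap_int_eq, h1, map_C, zsmul_eq_mul, mul_left_comm]
  simp

theorem Cy.eval_ne {u : ℤ[X]} (h : Cy u) {t : ℤ} (ht : 1 < t) : u.eval t ≠ 0 := by
  obtain ⟨N, a, n, c, h1, h2, h3⟩ := h
  refine ne_zero_of_dvd_ne_zero ?_ (eval_dvd (x := t) h3)
  simp only [eval_mul, eval_C, eval_pow, eval_X, eval_sub, eval_one]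
  exact mul_ne_zero (mul_ne_zero h1 (pow_ne_zero _ (by omega))) (pow_ne_zero _ (sub_pos.2 (one_lt_pow₀ ht h2.ne')).ne')

theorem Cy.xmul {u : ℤ[X]} (h : Cy u) (b : ℕ) : Cy (X ^ b * u) := by
  obtain ⟨N, a, n, c, h1, h2, h3⟩ := h
  exact ⟨N, b + a, n, c, h1, h2, by rw [pow_add, mul_left_comm, mul_assoc]; exact mul_dvd_mul_left _ h3⟩

variable {p : ℕ} {E : ℤ[X]} {S : Set ℤ[X]}

theorem one_lt_cast (hp : p.Prime) {j : ℕ} (hj : 0 < j) : (1 : ℤ) < (p : ℤ) ^ j := one_lt_pow₀ (Nat.one_lt_cast.2 hp.one_lt) hj.ne'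

theorem codeg (hp : p.Prime) (hE : Cy E) (h₁ h₂ h₃ : ℤ[X]) : ∃ z : ℤ × ℤ[X], (z.1 ≠ 0 ∧ Cy z.2) ∧ ∃ B, ∀ j, B < j → ∀ k y : ℕ, 0 < y →
    Tri p E h₁ h₂ h₃ ((p : ℤ) ^ j) (k * y) y → z.1 * k = z.2.eval ((p : ℤ) ^ j) := by
  have key : ∀ j, 0 < j → ∀ k z : ℕ, 0 < z → Tri p E h₁ h₂ h₃ ((p : ℤ) ^ j) (k * z) z → (h₁ * h₃).eval ((p : ℤ) ^ j) ≠ 0 ∧
      (h₂ * E).eval ((p : ℤ) ^ j) = k * (h₁ * h₃).eval ((p : ℤ) ^ j) ∧ h₂.eval ((p : ℤ) ^ j) ≠ 0 ∧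
      ∃ i, h₂.eval ((p : ℤ) ^ j) = (p : ℤ) ^ i * h₁.eval ((p : ℤ) ^ j) := fun j hj k z hz ⟨i, y, e0, e1, e2, e3⟩ => by
    have h0 := hE.eval_ne (one_lt_cast hp hj)
    have h1 : (y : ℤ) ≠ 0 := left_ne_zero_of_mul (e1 ▸ h0)
    have h2 : (k : ℤ) * z = p ^ i * y := by exact_mod_cast e0
    rw [eval_mul, eval_mul]
    refine ⟨mul_ne_zero (right_ne_zero_of_mul (e1 ▸ h0)) (right_ne_zero_of_mul (e3 ▸ mul_ne_zero (Nat.cast_ne_zero.2 hz.ne') h0)),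
      mul_left_cancel₀ (mul_ne_zero h1 h1) ?_, right_ne_zero_of_mul (e2 ▸ mul_ne_zero (pow_ne_zero _ (Nat.cast_ne_zero.2 hp.ne_zero)) h0),
      i, mul_left_cancel₀ h1 (by rw [← e2, e1, mul_left_comm])⟩
    linear_combination (-y * E.eval ((p : ℤ) ^ j)) * e2 + (k * y * h₃.eval ((p : ℤ) ^ j)) * e1 + (k * E.eval ((p : ℤ) ^ j)) * e3 -
      E.eval ((p : ℤ) ^ j) ^ 2 * h2
  by_cases H : ∀ B, ∃ j, B < j ∧ ∃ k z : ℕ, 0 < z ∧ Tri p E h₁ h₂ h₃ ((p : ℤ) ^ j) (k * z) z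
  swap
  · push Not at H
    exact ⟨(1, E), ⟨one_ne_zero, hE⟩, H.imp fun B h j hj k z hz e => absurd e (h j hj k z hz)⟩
  obtain ⟨j₀, hj₀, k₀, z₀, hz₀, e₀⟩ := H 0
  obtain ⟨h4, -, h5, -⟩ := key j₀ hj₀ k₀ z₀ hz₀ e₀
  obtain ⟨N, h6, u, h7⟩ := exists_dvd (dvd_of_values (g := (h₂ * E).map (Int.castRingHom ℚ))
    ((Polynomial.map_ne_zero_iff (RingHom.injective_int (Int.castRingHom ℚ))).2 fun e : h₁ * h₃ = 0 => h4 (by rw [e, eval_zero]))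
    fun B => by
      obtain ⟨j, hj, k, z, hz, e⟩ := H B
      refine ⟨p ^ j, hj.trans (Nat.lt_pow_self hp.one_lt), k, ?_⟩
      rw [show ((p ^ j : ℕ) : ℚ) = (((p : ℤ) ^ j : ℤ) : ℚ) by simp, eval_map_cast, eval_map_cast, (key j (by omega) k z hz e).2.1,
        Int.cast_mul])
  obtain ⟨a, v, h8, rfl⟩ := WfDvdMonoid.max_power_factor (fun e : h₂ = 0 => h5 (by rw [e, eval_zero])) irreducible_X
  obtain ⟨M, h9, s, h10⟩ := exists_dvd (dvd_of_pow_values (f := v) (g := h₁) hp (mt X_dvd_iff.2 h8) fun B => by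
    obtain ⟨j, hj, k, z, hz, e⟩ := H B
    obtain ⟨i, hi⟩ := (key j (by omega) k z hz e).2.2.2
    exact ⟨j, i, hj, hi ▸ eval_dvd (dvd_mul_left _ _)⟩)
  refine ⟨(N, u), ⟨h6, ((hE.xmul a).cmul (mul_ne_zero h9 h6)).of_dvd ⟨s * h₃, mul_left_cancel₀ (right_ne_zero_of_mul
    fun e : X ^ a * v = 0 => h5 (by rw [e, eval_zero])) ?_⟩⟩, 0, fun j hj k z hz e => ?_⟩
  · rw [C_mul]
    linear_combination C M * h7 + (h₃ * u) * h10
  · obtain ⟨h11, h12, -⟩ := key j hj k z hz e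
    have h13 := congrArg (eval ((p : ℤ) ^ j)) h7
    rw [eval_mul, eval_C, h12, eval_mul (q := u)] at h13
    exact mul_left_cancel₀ h11 (by rw [← h13]; ring)

theorem lg_codeg (hp : p.Prime) {f : ℕ} (hf : 0 < f) (hE : Cy E) (hS : S.Finite) (c : ℕ) : ∃ T : Set (ℤ × ℤ[X]), T.Finite ∧
    (∀ z ∈ T, z.1 ≠ 0 ∧ Cy z.2) ∧ Lg fun m => ∀ k y : ℕ, 0 < y → Cd S E c p ((p : ℤ) ^ (f * m)) (k * y) y →
      ∃ z ∈ T, z.1 * k = z.2.eval ((p : ℤ) ^ (f * m)) := by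
  choose! z hz B hB using fun (i : ℕ × ℤ[X] × ℤ[X] × ℤ[X]) (h : i ∈ Set.Icc 1 c ×ˢ S ×ˢ S ×ˢ S) =>
    codeg hp (hE.cmul (b := i.1) (Nat.cast_ne_zero.2 (Nat.one_le_iff_ne_zero.1 h.1.1))) i.2.1 i.2.2.1 i.2.2.2
  have h0 := (Set.finite_Icc 1 c).prod (hS.prod (hS.prod hS))
  refine ⟨_, h0.image z, Set.forall_mem_image.2 hz, (Lg.all h0 fun i _ => Lg.gt (B i)).mono
    fun m h k y hy ⟨w, h1, a, h2, b, h3, c, h4, e⟩ => ⟨_, Set.mem_image_of_mem z (show (w, a, b, c) ∈ _ from ⟨h1, h2, h3, h4⟩), ?_⟩⟩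
  exact hB _ ⟨h1, h2, h3, h4⟩ _ ((h _ ⟨h1, h2, h3, h4⟩).trans_le (Nat.le_mul_of_pos_left _ hf)) k y hy e

theorem Nq.pos {q d l : ℕ} (hp : p.Prime) (h : Nq p q d l) : 0 < d := by
  obtain ⟨f, -, rfl⟩ := h.pq
  have h1 : (p ^ f).Coprime (if l = 2 then 4 else l) := by
    have h2 := (Nat.coprime_primes hp h.lp).2 h.ne.symm
    split_ifs with e
    · exact (e ▸ h2).pow f 2
    · exact h2.pow_left f
  have : NeZero (if l = 2 then 4 else l) := ⟨by have := h.lp.pos; split_ifs <;> omega⟩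
  rw [← h.dl, ← ZMod.coe_unitOfCoprime _ h1, orderOf_units]
  exact orderOf_pos _

/-- **the arithmetic** -/
theorem arith {q d l : ℕ} (hp : p.Prime) (hq : Nq p q d l) (hE : Cy E) (hS : S.Finite) (c n : ℕ) : Lg fun m => ∀ r, Nr q d r m →
    ∀ k y k' y' : ℕ, 0 < y → 0 < y' → Cd S E c p ((q : ℤ) ^ m) (k * y) y → Cd S E c p ((q : ℤ) ^ m) (k' * y') y' →
      ∀ (a ω : ℤ) (v : ℕ), a ≠ 0 → |a| ≤ n → 0 < v → v ≤ n → (r : ℤ) ∣ v - ω → a * k = ω * k' →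
        padicValInt l (a * k) ≤ padicValInt l (v * k') := by
  have := Fact.mk hq.lp
  have hd := Nq.pos hp hq
  obtain ⟨f, hf, rfl⟩ := hq.pq
  obtain ⟨T, h1, h2, h3⟩ := lg_codeg hp hf hE hS c
  choose! B hB using fun (i : (ℤ × ℤ[X]) × (ℤ × ℤ[X]) × ℤ × ℤ) (h : i ∈ T ×ˢ T ×ˢ (Set.Icc (-n : ℤ) n \ {0}) ×ˢ Set.Icc (1 : ℤ) n) =>
    val_le (l := l) hd ((h2 _ h.1).2.cmul (mul_ne_zero h.2.2.1.2 (h2 _ h.2.1).1))
      ((h2 _ h.2.1).2.cmul (mul_ne_zero (zero_lt_one.trans_le h.2.2.2.1).ne' (h2 _ h.1).1))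
  have h0 := h1.prod (h1.prod (((Set.finite_Icc (-n : ℤ) n).sdiff (t := {0})).prod (Set.finite_Icc (1 : ℤ) n)))
  refine (((h3.and (Lg.all h0 fun i _ => Lg.gt (B i))).and (Lg.lvl hd)).and (Lg.gt n)).mono
    fun m ⟨⟨⟨h4, h5⟩, j, hj⟩, h6⟩ r hr k y k' y' hy hy' e e' a ω v ha ha' hv hv' h7 h8 => ?_
  have := Fact.mk hr.rp
  rw [Nat.cast_pow, ← pow_mul] at e e'
  obtain ⟨z, hz, h9⟩ := h4 k y hy e
  obtain ⟨z', hz', h10⟩ := h4 k' y' hy' e'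
  have h11 : (z, z', a, (v : ℤ)) ∈ T ×ˢ T ×ˢ (Set.Icc (-n : ℤ) n \ {0}) ×ˢ Set.Icc (1 : ℤ) n :=
    ⟨hz, hz', ⟨abs_le.1 ha', ha⟩, Nat.one_le_cast.2 hv, Nat.cast_le.2 hv'⟩
  have h12 := one_lt_cast hp (mul_pos hf (show 0 < m by omega))
  have h13 := hB _ h11 r hr.rp ((h5 _ h11).trans hr.mr) ((p : ℤ) ^ (f * m)) ⟨h12, ?_⟩ ?_ v ω
    (fun e => (Nat.le_of_dvd hv (Int.natCast_dvd_natCast.1 e)).not_gt (by have := hr.mr; omega)) h7 (by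
      simp only [eval_mul, eval_C, ← h9, ← h10]
      linear_combination (v * z.1 * z'.1) * h8)
  · have h14 := (h2 z hz).2.eval_ne h12
    have h15 := (h2 z' hz').2.eval_ne h12
    rw [← h9] at h14
    rw [← h10] at h15
    have h16 := mul_ne_zero (h2 z hz).1 (h2 z' hz').1
    simp only [eval_mul, eval_C, ← h9, ← h10] at h13
    rw [show a * z'.1 * (z.1 * k) = z.1 * z'.1 * (a * k) by ring, show v * z.1 * (z'.1 * k') = z.1 * z'.1 * (v * k') by ring,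
      padicValInt.mul h16 (mul_ne_zero ha (right_ne_zero_of_mul h14)),
      padicValInt.mul h16 (mul_ne_zero (Nat.cast_ne_zero.2 hv.ne') (right_ne_zero_of_mul h15))] at h13
    omega
  · rw [← hq.dl, Int.cast_pow, Int.cast_natCast, pow_mul, ← Nat.cast_pow, hj, pow_add, pow_one, pow_mul, ← hq.dl, pow_orderOf_eq_one,
      one_pow, mul_one]
  · have h14 : orderOf ((((p : ℤ) ^ (f * m) : ℤ)) : ZMod r) = d := by
      rw [Int.cast_pow, Int.cast_natCast, pow_mul, ← Nat.cast_pow, orderOf_pow_of_dvd (by omega) (hr.ord ▸ dvd_mul_left _ _), hr.ord,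
        Nat.mul_div_cancel _ (by omega)]
    have h15 := (h14 ▸ IsPrimitiveRoot.orderOf _).isRoot_cyclotomic hd
    rw [← ZMod.intCast_zmod_eq_zero_iff_dvd, ← h15.eq_zero, ← map_cyclotomic_int d (ZMod r), eval_map]
    exact (eval₂_hom (Int.castRingHom (ZMod r)) _).symm

end Cfsg.Agent.BZ.L.Hc
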